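import Groth.Agent.Lib.DimCut.Product
import Groth.Agent.Lib.Dim.Scheme
import Groth.Agent.Lib.AlgMisc.GeomRegAt
import Groth.Agent.Lib.CMFree.Regular
import Mathlib

/-!
# Components of smooth schemes over a field have the relative dimension
-/

universe u

open CategoryTheory AlgebraicGeometry

namespace GrothLib.CotTangent

theorem topologicalKrullDim_integral_of_smoothOfRelativeDimension {K : Type u} [Field K] {W : Scheme.{u}}
    [IsIntegral W] (q : W ⟶ Spec (CommRingCat.of K)) [LocallyOfFiniteType q] (n : ℕ)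
    [SmoothOfRelativeDimension n q] : topologicalKrullDim W = n := by
  obtain ⟨U, hU, V, hV, hzV, e, hstd⟩ :=
    SmoothOfRelativeDimension.exists_isStandardSmoothOfRelativeDimension (n := n) (f := q) (genericPoint W)
  have hU' : U = ⊤ := by
    ext a
    simp only [SetLike.mem_coe, TopologicalSpace.Opens.coe_top, Set.mem_univ, iff_true]
    rw [Subsingleton.elim a (q (genericPoint W))]
    exact e hzV
  subst hU'
  haveI : Nonempty V := ⟨⟨_, hzV⟩⟩
  let ψ : CommRingCat.of K ⟶ Γ(W, V) := (Scheme.ΓSpecIso (CommRingCat.of K)).inv ≫ q.appLE ⊤ V e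
  have hψ : ψ.hom.IsStandardSmoothOfRelativeDimension n :=
    RingHom.isStandardSmoothOfRelativeDimension_respectsIso.2 (q.appLE ⊤ V e).hom
      (Scheme.ΓSpecIso (CommRingCat.of K)).symm.commRingCatIsoToRingEquiv hstd
  algebraize [ψ.hom]
  obtain ⟨w, hw, hwV⟩ := GrothLib.Dim.exists_nat_dim_open q
  rw [hw, ← hwV V inferInstance, GrothLib.Dim.topologicalKrullDim_affineOpen hV,
    GrothLib.DimCut.ringKrullDim_of_isStandardSmooth (K := K) n]

theorem topologicalKrullDim_component_of_smooth {K : Type u} [Field K] {F : Scheme.{u}}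
    (q : F ⟶ Spec (CommRingCat.of K)) [LocallyOfFiniteType q] [CompactSpace F] (n : ℕ)
    [SmoothOfRelativeDimension n q] (Z : Set F) (hZ : Z ∈ irreducibleComponents F) :
    topologicalKrullDim Z = n := by
  haveI : Smooth q := SmoothOfRelativeDimension.smooth n q
  haveI : IsReduced F := by
    haveI : ∀ x : F, _root_.IsReduced (F.presheaf.stalk x) := fun x => by
      haveI := Groth.Agent.Lib.AlgMisc.GeomRegAt.isRegularLocalRing_stalk_of_mem_smoothLocus q (x := x)
        (by rw [q.smoothLocus_eq_top]; trivial)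
      haveI := GrothLib.CMFree.isDomain_of_isRegularLocalRing (F.presheaf.stalk x)
      infer_instance
    exact isReduced_of_isReduced_stalk F
  haveI : IsNoetherian F := { __ := LocallyOfFiniteType.isLocallyNoetherian q }
  let U : F.Opens :=
    ⟨(⋃₀ (irreducibleComponents F \ {Z}))ᶜ, by
      rw [Set.sUnion_eq_biUnion, isOpen_compl_iff]
      exact TopologicalSpace.NoetherianSpace.finite_irreducibleComponents.sdiff.isClosed_biUnion
        fun W hW ↦ isClosed_of_mem_irreducibleComponents W hW.1⟩
  have hU : closure (U : Set F) = Z :=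
    closure_sUnion_irreducibleComponents_sdiff_singleton
      TopologicalSpace.NoetherianSpace.finite_irreducibleComponents _ hZ
  haveI : IrreducibleSpace U := isIrreducible_iff_irreducibleSpace.mp
    (isIrreducible_iff_closure.mp (hU ▸ hZ.1))
  haveI : IsIntegral U := isIntegral_of_irreducibleSpace_of_isReduced _
  haveI : SmoothOfRelativeDimension n (U.ι ≫ q) := by
    have := smoothOfRelativeDimension_comp 0 n U.ι q
    rwa [zero_add] at this
  have hdU := topologicalKrullDim_integral_of_smoothOfRelativeDimension (U.ι ≫ q) n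
  obtain ⟨z, hz, hzU⟩ := GrothLib.Dim.exists_nat_dim_irreducible q (isClosed_of_mem_irreducibleComponents Z hZ) hZ.1
  have hUZ : (U : Set F) ⊆ Z := hU ▸ subset_closure
  obtain ⟨a⟩ := (inferInstance : Nonempty U)
  rw [hz, ← hzU U ⟨a.1, hUZ a.2, a.2⟩, Set.inter_eq_right.2 hUZ]
  exact hdU

end GrothLib.CotTangent
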