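import Groth.Agent.Lib.CotTangent.Scheme
import Groth.Agent.Lib.GenericSmooth.RelDim
import Groth.Agent.Lib.Dim.Scheme
import Mathlib

/-!
# Smooth morphisms of smooth varieties over an algebraically closed field
-/

universe u

open CategoryTheory AlgebraicGeometry IsLocalRing

namespace GrothLib.CotTangent

/-- A smooth morphism between integral schemes of finite type over a field has relative dimension
the difference of the dimensions. -/
theorem smoothOfRelativeDimension_of_dim {k : Type u} [Field k] {X Y : Scheme.{u}}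
    (qX : X ⟶ Spec (CommRingCat.of k)) (qY : Y ⟶ Spec (CommRingCat.of k))
    [LocallyOfFiniteType qX] [LocallyOfFiniteType qY] [IsIntegral X] [IsIntegral Y]
    (f : X ⟶ Y) (hf : f ≫ qY = qX) [Smooth f] (n dY : ℕ) (hY : topologicalKrullDim ↥Y = dY)
    (hX : topologicalKrullDim ↥X = ((dY + n : ℕ) : WithBot ℕ∞)) : SmoothOfRelativeDimension n f := by
  refine ⟨fun z => ?_⟩
  obtain ⟨U, hU, V, hV, hzV, e, hstd⟩ := Smooth.exists_isStandardSmooth f z
  refine ⟨U, hU, V, hV, hzV, e, ?_⟩
  haveI : Nonempty V := ⟨⟨z, hzV⟩⟩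
  haveI : Nonempty U := ⟨⟨f z, e hzV⟩⟩
  haveI : IsDomain Γ(X, V) := inferInstance
  haveI : IsDomain Γ(Y, U) := inferInstance
  obtain ⟨ψ, hψ, hψ'⟩ := GrothLib.Dim.exists_finiteType_specMap qY hU
  obtain ⟨χ, hχ, hχ'⟩ := GrothLib.Dim.exists_finiteType_specMap (f ≫ qY) (U := V) hV
  let g := f.appLE U V e
  have htri : ψ ≫ g = χ := Spec.map_injective (by
    rw [Spec.map_comp, ← hψ', ← Category.assoc, hU.SpecMap_appLE_fromSpec f hV e, Category.assoc, hχ'])
  algebraize [ψ.hom, χ.hom, g.hom]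
  haveI : IsScalarTower k Γ(Y, U) Γ(X, V) := IsScalarTower.of_algebraMap_eq' (congrArg CommRingCat.Hom.hom htri).symm
  haveI : Algebra.FiniteType k Γ(Y, U) := hψ
  haveI : Algebra.FiniteType k Γ(X, V) := hχ
  haveI : Algebra.IsStandardSmooth Γ(Y, U) Γ(X, V) := hstd
  obtain ⟨ι, σ, hσ, hι, ⟨P⟩⟩ := Algebra.IsStandardSmooth.out (R := Γ(Y, U)) (S := Γ(X, V))
  haveI hm : Algebra.IsStandardSmoothOfRelativeDimension P.dimension Γ(Y, U) Γ(X, V) := ⟨ι, σ, hσ, hι, P, rfl⟩
  suffices P.dimension = n by rw [← this]; exact hm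
  haveI : Module.Flat Γ(Y, U) Γ(X, V) := RingHom.Smooth.flat (f.smooth_appLE hU hV e)
  haveI : FaithfulSMul Γ(Y, U) Γ(X, V) := by
    refine (faithfulSMul_iff_algebraMap_injective _ _).2 ((injective_iff_map_eq_zero _).2 fun a ha => ?_)
    by_contra hne
    haveI : Module.IsTorsionFree Γ(Y, U) Γ(X, V) := inferInstance
    rcases smul_eq_zero.1 (show a • (1 : Γ(X, V)) = 0 by rw [Algebra.smul_def, ha, zero_mul]) with h | h
    exacts [hne h, one_ne_zero h]
  haveI : FaithfulSMul k Γ(Y, U) := (faithfulSMul_iff_algebraMap_injective _ _).2 (RingHom.injective _)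
  obtain ⟨a, hta, hda⟩ := GrothLib.Dim.exists_nat_trdeg_eq_and_ringKrullDim_eq k Γ(Y, U)
  obtain ⟨b, htb, hdb⟩ := GrothLib.Dim.exists_nat_trdeg_eq_and_ringKrullDim_eq k Γ(X, V)
  have hadd := trdeg_add_eq k Γ(Y, U) (A := Γ(X, V))
  rw [hta, htb, GrothLib.GenericSmooth.trdeg_of_isStandardSmooth P.dimension Γ(Y, U) Γ(X, V)] at hadd
  have hab : a + P.dimension = b := by exact_mod_cast hadd
  obtain ⟨a', ha', haU⟩ := GrothLib.Dim.exists_nat_dim_open qY
  obtain ⟨b', hb', hbV⟩ := GrothLib.Dim.exists_nat_dim_open qX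
  have e1 := haU U inferInstance
  rw [GrothLib.Dim.topologicalKrullDim_affineOpen hU, hda] at e1
  have e2 := hbV V inferInstance
  rw [GrothLib.Dim.topologicalKrullDim_affineOpen hV, hdb] at e2
  rw [hY] at ha'
  rw [hX] at hb'
  have h1 : a = a' := by exact_mod_cast e1
  have h2 : b = b' := by exact_mod_cast e2
  have h3 : dY = a' := by exact_mod_cast ha'
  have h4 : dY + n = b' := by exact_mod_cast hb'
  omega

section

variable {k : Type u} [Field k] [IsAlgClosed k] {X Y : Scheme.{u}}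
  (qX : X ⟶ Spec (CommRingCat.of k)) (qY : Y ⟶ Spec (CommRingCat.of k))
  [LocallyOfFiniteType qX] [LocallyOfFiniteType qY] [Smooth qX] [Smooth qY]
  (f : X ⟶ Y) (hf : f ≫ qY = qX)

include qX qY hf in
/-- A morphism of smooth schemes with injective cotangent maps at closed points is smooth. -/
theorem smooth_of_forall_injective
    (h : ∀ x : X, IsClosed ({x} : Set X) → Function.Injective (FixPt.cotangentMapAt f x (f x) rfl)) :
    Smooth f := by
  haveI := locallyOfFinitePresentation_of_over qX qY f hf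
  haveI : JacobsonSpace X := LocallyOfFiniteType.jacobsonSpace qX
  rw [← Scheme.Hom.smoothLocus_eq_top_iff]
  refine top_le_iff.1 fun z _ => ?_
  by_contra hz
  obtain ⟨y, hy, hyc⟩ := nonempty_inter_closedPoints (⟨z, hz⟩ : ((f.smoothLocus : Set X)ᶜ).Nonempty)
    f.smoothLocus.2.isClosed_compl.isLocallyClosed
  exact hy (mem_smoothLocus_of_injective qX qY f hf y hyc (h y hyc))

include qX qY hf in
theorem injective_of_smooth [Smooth f] (x : X) :
    Function.Injective (FixPt.cotangentMapAt f x (f x) rfl) :=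
  injective_of_mem_smoothLocus qX qY f hf x (by rw [f.smoothLocus_eq_top]; trivial)

end

end GrothLib.CotTangent
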