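import Groth.Agent.Lib.CotTangent.Local
import Groth.Agent.Lib.GenericSmooth.Basic
import Groth.Agent.Lib.Serre.Smooth
import Groth.Agent.Lib.AlgMisc.GeomRegAt
import Groth.Prelude.Def_FixPt
import Mathlib

/-!
# Smoothness through cotangent maps at closed points over an algebraically closed field
-/

universe u

open CategoryTheory AlgebraicGeometry IsLocalRing

namespace GrothLib.CotTangent

theorem stalkMapAt_rfl {X Y : Scheme.{u}} (f : X ⟶ Y) (x : X) : FixPt.stalkMapAt f x (f x) rfl = (f.stalkMap x).hom := by
  simp [FixPt.stalkMapAt]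

theorem injective_cotangentMapAt_iff {X Y : Scheme.{u}} (f : X ⟶ Y) (x : X) :
    Function.Injective (FixPt.cotangentMapAt f x (f x) rfl) ↔
      ∀ a ∈ maximalIdeal (Y.presheaf.stalk (f x)),
        (f.stalkMap x).hom a ∈ maximalIdeal (X.presheaf.stalk x) ^ 2 →
          a ∈ maximalIdeal (Y.presheaf.stalk (f x)) ^ 2 := by
  rw [injective_iff_map_eq_zero]
  constructor
  · intro h a ha h2
    have := h ((maximalIdeal (Y.presheaf.stalk (f x))).toCotangent ⟨a, ha⟩) (by
      rw [FixPt.cotangentMapAt, Ideal.mapCotangent_toCotangent, Ideal.toCotangent_eq_zero]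
      show (FixPt.stalkMapAt f x (f x) rfl) a ∈ _
      rw [stalkMapAt_rfl]; exact h2)
    exact (Ideal.toCotangent_eq_zero _ _).1 this
  · intro h v hv
    obtain ⟨⟨a, ha⟩, rfl⟩ := Ideal.toCotangent_surjective _ v
    rw [FixPt.cotangentMapAt, Ideal.mapCotangent_toCotangent, Ideal.toCotangent_eq_zero] at hv
    rw [Ideal.toCotangent_eq_zero]
    have hv' : (FixPt.stalkMapAt f x (f x) rfl) a ∈ _ := hv
    rw [stalkMapAt_rfl] at hv'
    exact h a ha hv'

/-- local rings formally smooth and essentially of finite type over a field are regular -/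
theorem isRegularLocalRing_of_formallySmooth (K T : Type u) [Field K] [CommRing T] [IsLocalRing T]
    [Algebra K T] [Algebra.EssFiniteType K T] [Algebra.FormallySmooth K T] : IsRegularLocalRing T := by
  let S := Algebra.EssFiniteType.subalgebra K T
  haveI : IsLocalization.AtPrime T (maximalIdeal T) := IsLocalization.self fun x hx => by
    by_contra h
    exact hx h
  haveI : IsLocalization.AtPrime T ((maximalIdeal T).comap (algebraMap S T)) :=
    IsLocalization.isLocalization_isLocalization_atPrime_isLocalization
      (Algebra.EssFiniteType.submonoid K T) T (maximalIdeal T)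
  let q : Ideal S := (maximalIdeal T).comap (algebraMap S T)
  let e : Localization.AtPrime q ≃ₐ[S] T := IsLocalization.algEquiv q.primeCompl _ _
  haveI : Algebra.IsSmoothAt K q := Algebra.FormallySmooth.of_equiv (e.restrictScalars K).symm
  haveI := GrothLib.Serre.isRegularLocalRing_of_isSmoothAt (k := K) q
  exact IsRegularLocalRing.of_ringEquiv e.toRingEquiv

section

variable {k : Type u} [Field k] [IsAlgClosed k] {X Y : Scheme.{u}}
  (qX : X ⟶ Spec (CommRingCat.of k)) (qY : Y ⟶ Spec (CommRingCat.of k))
  [LocallyOfFiniteType qX] [LocallyOfFiniteType qY] [Smooth qX] [Smooth qY]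
  (f : X ⟶ Y) (hf : f ≫ qY = qX)

include hf in
omit [IsAlgClosed k] [Smooth qX] [Smooth qY] [LocallyOfFiniteType qY] in
theorem locallyOfFiniteType_of_over : LocallyOfFiniteType f :=
  haveI : LocallyOfFiniteType (f ≫ qY) := hf ▸ ‹_›
  locallyOfFiniteType_of_comp f qY

include hf in
omit [IsAlgClosed k] [Smooth qX] [Smooth qY] in
theorem locallyOfFinitePresentation_of_over : LocallyOfFinitePresentation f :=
  haveI := locallyOfFiniteType_of_over qX qY f hf
  haveI : IsLocallyNoetherian Y := LocallyOfFiniteType.isLocallyNoetherian qY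
  inferInstance

include hf in
omit [Smooth qX] [Smooth qY] in
theorem residueFieldMap_surjective (x : X) (hx : IsClosed ({x} : Set X)) (hy : IsClosed ({f x} : Set Y)) :
    Function.Surjective (f.residueFieldMap x).hom := by
  have key : (residueFieldIsoBase qY (f x) hy).inv ≫ f.residueFieldMap x = (residueFieldIsoBase qX x hx).inv := by
    apply Spec.map_injective
    rw [Spec.map_comp, SpecMap_residueFieldIsoBase_inv, SpecMap_residueFieldIsoBase_inv,
      Scheme.Hom.SpecMap_residueFieldMap_fromSpecResidueField_assoc, hf]
  intro z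
  obtain ⟨c, rfl⟩ := (ConcreteCategory.bijective_of_isIso (residueFieldIsoBase qX x hx).inv).2 z
  exact ⟨(residueFieldIsoBase qY (f x) hy).inv c, by rw [← key]; rfl⟩

theorem perfectField_residueField {k : Type u} [Field k] [IsAlgClosed k] {Y : Scheme.{u}}
    (q : Y ⟶ Spec (CommRingCat.of k)) [LocallyOfFiniteType q] (y : Y) (hy : IsClosed ({y} : Set Y)) :
    PerfectField (Y.residueField y) :=
  haveI : IsAlgClosed (Y.residueField y) :=
    IsAlgClosed.of_ringEquiv k _ (residueFieldIsoBase q y hy).commRingCatIsoToRingEquiv.symm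
  inferInstance

theorem isRegularLocalRing_stalk {k : Type u} [Field k] {X : Scheme.{u}}
    (q : X ⟶ Spec (CommRingCat.of k)) [Smooth q] (x : X) : IsRegularLocalRing (X.presheaf.stalk x) :=
  Groth.Agent.Lib.AlgMisc.GeomRegAt.isRegularLocalRing_stalk_of_mem_smoothLocus q (x := x)
    (by rw [q.smoothLocus_eq_top]; trivial)

include hf in
theorem isClosed_image (x : X) (hx : IsClosed ({x} : Set X)) : IsClosed ({f x} : Set Y) := by
  haveI := locallyOfFiniteType_of_over qX qY f hf
  haveI : JacobsonSpace Y := LocallyOfFiniteType.jacobsonSpace qY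
  exact f.closePoints_subset_preimage_closedPoints hx

include qX qY hf in
/-- injective cotangent map at a closed point implies smoothness there -/
theorem mem_smoothLocus_of_injective [LocallyOfFinitePresentation f] (x : X) (hx : IsClosed ({x} : Set X))
    (hinj : Function.Injective (FixPt.cotangentMapAt f x (f x) rfl)) : x ∈ f.smoothLocus := by
  haveI := locallyOfFiniteType_of_over qX qY f hf
  have hy := isClosed_image qX qY f hf x hx
  haveI := isRegularLocalRing_stalk qX x
  haveI := isRegularLocalRing_stalk qY (f x)
  have hres := residueFieldMap_surjective qX qY f hf x hx hy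
  have hperf : PerfectField (ResidueField (Y.presheaf.stalk (f x))) := perfectField_residueField qY (f x) hy
  have := LocallyOfFiniteType.stalkMap f x
  rw [Scheme.Hom.mem_smoothLocus]
  algebraize [(f.stalkMap x).hom]
  haveI : IsLocalHom (algebraMap (Y.presheaf.stalk (f x)) (X.presheaf.stalk x)) :=
    f.toLRSHom.prop x
  obtain ⟨hflat, hreg⟩ := flat_and_regular_of_mem_sq (Y.presheaf.stalk (f x)) (X.presheaf.stalk x) (fun b => by
      obtain ⟨a, ha⟩ := hres (residue _ b)
      obtain ⟨a, rfl⟩ := residue_surjective a
      refine ⟨a, ?_⟩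
      rw [← residue_eq_zero_iff, map_sub, sub_eq_zero]
      exact ha.symm)
    ((injective_cotangentMapAt_iff f x).1 hinj)
  let R := Y.presheaf.stalk (f x)
  let S := X.presheaf.stalk x
  letI : Algebra.EssFiniteType (ResidueField R) (TensorProduct R (ResidueField R) S) := inferInstance
  haveI hregT : IsRegularLocalRing (TensorProduct R (ResidueField R) S) := by
    haveI := hreg
    refine IsRegularLocalRing.of_ringEquiv
      (R := S ⧸ (maximalIdeal R).map (algebraMap R S)) ?_
    exact (Algebra.TensorProduct.quotIdealMapEquivTensorQuot S (maximalIdeal R)).toRingEquiv.trans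
      (Algebra.TensorProduct.comm R S (R ⧸ maximalIdeal R)).toRingEquiv
  haveI : Algebra.FormallySmooth (ResidueField R) (TensorProduct R (ResidueField R) S) :=
    GrothLib.GenericSmooth.formallySmooth_of_regular_essFiniteType _ _
  haveI : Algebra.FinitePresentation R (Algebra.EssFiniteType.subalgebra R S) :=
    Algebra.FinitePresentation.of_finiteType.mp inferInstance
  exact Algebra.FormallySmooth.of_formallySmooth_residueField_tensor (R := R) (S := S)
    (P := Algebra.EssFiniteType.subalgebra R S) (Algebra.EssFiniteType.submonoid R S)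

include qX qY hf in
/-- smooth morphisms have injective cotangent maps at closed points -/
theorem injective_of_mem_smoothLocus [LocallyOfFinitePresentation f] [Flat f] (x : X)
    (hsm : x ∈ f.smoothLocus) : Function.Injective (FixPt.cotangentMapAt f x (f x) rfl) := by
  haveI := locallyOfFiniteType_of_over qX qY f hf
  haveI := isRegularLocalRing_stalk qX x
  haveI := isRegularLocalRing_stalk qY (f x)
  have := LocallyOfFiniteType.stalkMap f x
  have hflat := Flat.stalkMap f x
  rw [Scheme.Hom.mem_smoothLocus] at hsm
  rw [injective_cotangentMapAt_iff]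
  algebraize [(f.stalkMap x).hom]
  haveI : IsLocalHom (algebraMap (Y.presheaf.stalk (f x)) (X.presheaf.stalk x)) :=
    f.toLRSHom.prop x
  let R := Y.presheaf.stalk (f x)
  let S := X.presheaf.stalk x
  let J := (maximalIdeal R).map (algebraMap R S)
  haveI : IsLocalRing (S ⧸ J) := GrothLib.RegLoc.isLocalRing_quotient
    (Ideal.map_le_iff_le_comap.mpr fun a ha => map_nonunit (algebraMap R S) a ha)
  let e : S ⧸ J ≃+* TensorProduct R (ResidueField R) S :=
    (Algebra.TensorProduct.quotIdealMapEquivTensorQuot S (maximalIdeal R)).toRingEquiv.trans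
      (Algebra.TensorProduct.comm R S (R ⧸ maximalIdeal R)).toRingEquiv
  haveI : IsLocalRing (TensorProduct R (ResidueField R) S) := e.isLocalRing
  haveI := isRegularLocalRing_of_formallySmooth (ResidueField R) (TensorProduct R (ResidueField R) S)
  haveI : IsRegularLocalRing (S ⧸ J) := IsRegularLocalRing.of_ringEquiv e.symm
  exact mem_sq_of_flat_of_regular R S

end

end GrothLib.CotTangent
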