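import Groth.Agent.Lib.CotTangent.Scheme
import Groth.Agent.Lib.GenericSmooth.Basic
import Groth.Agent.Lib.GrpSchField.DimStalk
import Groth.Agent.Lib.CMBasics.DimIneq
import Groth.Agent.Lib.RegLoc.Basic
import Mathlib

/-!
# Generic injectivity of cotangent maps in characteristic zero
-/

universe u

open CategoryTheory AlgebraicGeometry IsLocalRing

namespace GrothLib.CotTangent

variable {k : Type u} [Field k] [IsAlgClosed k]

/-- smooth morphisms between smooth points have injective cotangent maps -/
theorem mem_sq_of_mem_smoothLocus {X Y : Scheme.{u}} (qX : X ⟶ Spec (CommRingCat.of k)) (qY : Y ⟶ Spec (CommRingCat.of k))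
    [LocallyOfFiniteType qX] [LocallyOfFiniteType qY] (f : X ⟶ Y) (hf : f ≫ qY = qX)
    [LocallyOfFinitePresentation f] (x : X)
    (hrX : IsRegularLocalRing (X.presheaf.stalk x)) (hrY : IsRegularLocalRing (Y.presheaf.stalk (f x)))
    (hsm : x ∈ f.smoothLocus) :
    ∀ a ∈ maximalIdeal (Y.presheaf.stalk (f x)),
        (f.stalkMap x).hom a ∈ maximalIdeal (X.presheaf.stalk x) ^ 2 →
          a ∈ maximalIdeal (Y.presheaf.stalk (f x)) ^ 2 := by
  haveI := locallyOfFiniteType_of_over qX qY f hf
  haveI := hrX
  haveI := hrY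
  have := LocallyOfFiniteType.stalkMap f x
  haveI := GrothLib.GenericSmooth.smooth_smoothLocus_ι_comp f
  haveI : Flat (f.smoothLocus.ι ≫ f) := inferInstance
  have hflat : (f.stalkMap x).hom.Flat := by
    obtain ⟨x, rfl⟩ : ∃ w : f.smoothLocus, f.smoothLocus.ι w = x := ⟨⟨x, hsm⟩, rfl⟩
    have h := Flat.stalkMap (f.smoothLocus.ι ≫ f) x
    rw [Scheme.Hom.stalkMap_comp] at h
    let e := (asIso (f.smoothLocus.ι.stalkMap x)).commRingCatIsoToRingEquiv
    have h2 := h.comp (RingHom.Flat.of_bijective (f := e.symm.toRingHom) e.symm.bijective)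
    have h3 : e.symm.toRingHom.comp ((f.stalkMap _ ≫ f.smoothLocus.ι.stalkMap x).hom) = (f.stalkMap _).hom :=
      RingHom.ext fun a => e.symm_apply_apply _
    exact h3 ▸ h2
  rw [Scheme.Hom.mem_smoothLocus] at hsm
  algebraize [(f.stalkMap x).hom]
  haveI : IsLocalHom (algebraMap (Y.presheaf.stalk (f x)) (X.presheaf.stalk x)) :=
    f.toLRSHom.prop x
  let R := Y.presheaf.stalk (f x)
  let S := X.presheaf.stalk x
  let J := (maximalIdeal R).map (algebraMap R S)
  haveI : IsLocalRing (S ⧸ J) := GrothLib.RegLoc.isLocalRing_quotient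
    (Ideal.map_le_iff_le_comap.mpr fun a ha => map_nonunit (algebraMap R S) a ha)
  let e : S ⧸ J ≃+* TensorProduct R (ResidueField R) S :=
    (Algebra.TensorProduct.quotIdealMapEquivTensorQuot S (maximalIdeal R)).toRingEquiv.trans
      (Algebra.TensorProduct.comm R S (R ⧸ maximalIdeal R)).toRingEquiv
  haveI : IsLocalRing (TensorProduct R (ResidueField R) S) := e.isLocalRing
  haveI := isRegularLocalRing_of_formallySmooth (ResidueField R) (TensorProduct R (ResidueField R) S)
  haveI : IsRegularLocalRing (S ⧸ J) := IsRegularLocalRing.of_ringEquiv e.symm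
  exact mem_sq_of_flat_of_regular R S

variable [CharZero k]

omit [IsAlgClosed k] in
theorem genericPoint_mem_smoothLocus_over {X : Scheme.{u}} [IsIntegral X] (q : X ⟶ Spec (CommRingCat.of k))
    [LocallyOfFinitePresentation q] : genericPoint X ∈ q.smoothLocus := by
  haveI := GrothLib.GenericSmooth.charZero_functionField (𝟙 (Spec (CommRingCat.of k)))
  exact GrothLib.GenericSmooth.genericPoint_mem_smoothLocus q (Subsingleton.elim _ _)

/-- a dominant morphism of varieties in characteristic zero has injective cotangent maps on an open set -/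
theorem exists_open_injective {X Y : Scheme.{u}} [IsIntegral X] [IsIntegral Y]
    (qX : X ⟶ Spec (CommRingCat.of k)) (qY : Y ⟶ Spec (CommRingCat.of k))
    [LocallyOfFiniteType qX] [LocallyOfFiniteType qY] (f : X ⟶ Y) (hf : f ≫ qY = qX)
    (hdom : DenseRange f.base) :
    ∃ U : X.Opens, genericPoint X ∈ U ∧ ∀ x ∈ U,
      IsRegularLocalRing (X.presheaf.stalk x) ∧ IsRegularLocalRing (Y.presheaf.stalk (f x)) ∧
      ∀ a ∈ maximalIdeal (Y.presheaf.stalk (f x)),
        (f.stalkMap x).hom a ∈ maximalIdeal (X.presheaf.stalk x) ^ 2 →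
          a ∈ maximalIdeal (Y.presheaf.stalk (f x)) ^ 2 := by
  haveI : IsLocallyNoetherian Y := LocallyOfFiniteType.isLocallyNoetherian qY
  haveI := locallyOfFiniteType_of_over qX qY f hf
  haveI : LocallyOfFinitePresentation qX := inferInstance
  haveI : LocallyOfFinitePresentation qY := inferInstance
  haveI : LocallyOfFinitePresentation f := inferInstance
  haveI := GrothLib.GenericSmooth.charZero_functionField qY
  have hgen := GrothLib.GenericSmooth.map_genericPoint_of_denseRange f hdom
  refine ⟨f.smoothLocus ⊓ qX.smoothLocus ⊓ f ⁻¹ᵁ qY.smoothLocus, ⟨⟨?_, ?_⟩, ?_⟩, ?_⟩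
  · exact GrothLib.GenericSmooth.genericPoint_mem_smoothLocus f hgen
  · exact genericPoint_mem_smoothLocus_over qX
  · show f (genericPoint X) ∈ qY.smoothLocus
    rw [hgen]; exact genericPoint_mem_smoothLocus_over qY
  · rintro x ⟨⟨h1, h2⟩, h3⟩
    have hrX := Groth.Agent.Lib.AlgMisc.GeomRegAt.isRegularLocalRing_stalk_of_mem_smoothLocus qX (x := x) h2
    have hrY := Groth.Agent.Lib.AlgMisc.GeomRegAt.isRegularLocalRing_stalk_of_mem_smoothLocus qY (x := f x) h3
    exact ⟨hrX, hrY, mem_sq_of_mem_smoothLocus qX qY f hf x hrX hrY h1⟩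

omit [CharZero k] in
/-- the dimension of a variety is the embedding dimension at a regular closed point -/
theorem finrank_cotangent_eq {Y : Scheme.{u}} [IsIntegral Y] (qY : Y ⟶ Spec (CommRingCat.of k))
    [LocallyOfFiniteType qY] (y : Y) (hy : IsClosed ({y} : Set Y)) [IsRegularLocalRing (Y.presheaf.stalk y)] :
    topologicalKrullDim Y = Module.finrank (ResidueField (Y.presheaf.stalk y)) (CotangentSpace (Y.presheaf.stalk y)) := by
  have h := GrothLib.GrpSchField.ringKrullDim_stalk_eq_of_isClosed qY isClosed_univ isOpen_univ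
    (IrreducibleSpace.isIrreducible_univ Y) (x := y) trivial hy
  rw [← IsHomeomorph.topologicalKrullDim_eq _ (Homeomorph.Set.univ Y).isHomeomorph, ← h,
    ← IsRegularLocalRing.spanFinrank_maximalIdeal, spanFinrank_maximalIdeal_eq_finrank_cotangentSpace]

/-- the images of a lifted cotangent basis stay independent -/
theorem linearIndependent_image (R S : Type u) [CommRing R] [CommRing S] [IsLocalRing R] [IsLocalRing S]
    [Algebra R S] [IsLocalHom (algebraMap R S)]
    (hres : ∀ b : S, ∃ a : R, b - algebraMap R S a ∈ maximalIdeal S)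
    (hinj : ∀ x ∈ maximalIdeal R, algebraMap R S x ∈ maximalIdeal S ^ 2 → x ∈ maximalIdeal R ^ 2)
    {ι : Type*} [Fintype ι] (x : ι → maximalIdeal R)
    (hx : LinearIndependent (ResidueField R) fun i => (maximalIdeal R).toCotangent (x i)) :
    LinearIndependent (ResidueField S)
      fun i => (maximalIdeal S).toCotangent ⟨algebraMap R S (x i), algebraMap_mem (x i)⟩ := by
  rw [Fintype.linearIndependent_iff]
  intro g hg i
  choose b hb using fun i => residue_surjective (g i)
  choose a ha using fun i => hres (b i)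
  have hga : ∀ i, g i = residue S (algebraMap R S (a i)) := fun i => by
    rw [← hb i, ← sub_eq_zero, ← map_sub, residue_eq_zero_iff]; exact ha i
  let y : maximalIdeal R := ∑ i, a i • x i
  have hy : algebraMap R S y ∈ maximalIdeal S ^ 2 := by
    rw [← Ideal.toCotangent_eq_zero _ ⟨algebraMap R S y, algebraMap_mem y⟩, ← hg]
    have : (⟨algebraMap R S y, algebraMap_mem y⟩ : maximalIdeal S) =
        ∑ i, algebraMap R S (a i) • (⟨algebraMap R S (x i), algebraMap_mem (x i)⟩ : maximalIdeal S) := by
      apply Subtype.ext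
      simp [y, Algebra.smul_def]
    rw [this, map_sum]
    refine Finset.sum_congr rfl fun i _ => ?_
    rw [LinearMap.map_smul, hga i]
    rfl
  have hy2 : (maximalIdeal R).toCotangent y = 0 := (Ideal.toCotangent_eq_zero _ _).2 (hinj y y.2 hy)
  have : ∑ i, residue R (a i) • (maximalIdeal R).toCotangent (x i) = 0 := by
    rw [← hy2, map_sum]
    refine Finset.sum_congr rfl fun i _ => ?_
    rw [LinearMap.map_smul]
    rfl
  have h0 := Fintype.linearIndependent_iff.1 hx _ this i
  rw [hga i, residue_eq_zero_iff]
  exact map_nonunit (algebraMap R S) _ ((residue_eq_zero_iff _).1 h0)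

/-- a local map from a noetherian domain to a regular local ring with injective cotangent map is injective -/
theorem injective_of_injective_cotangent (R S : Type u) [CommRing R] [CommRing S] [IsLocalRing R] [IsDomain R]
    [IsNoetherianRing R] [IsRegularLocalRing S] [Algebra R S] [IsLocalHom (algebraMap R S)]
    (hres : ∀ b : S, ∃ a : R, b - algebraMap R S a ∈ maximalIdeal S)
    (hinj : ∀ x ∈ maximalIdeal R, algebraMap R S x ∈ maximalIdeal S ^ 2 → x ∈ maximalIdeal R ^ 2) :
    Function.Injective (algebraMap R S) := by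
  classical
  rw [RingHom.injective_iff_ker_eq_bot]
  by_contra hne
  let q := RingHom.ker (algebraMap R S)
  letI : Algebra (R ⧸ q) S := (RingHom.kerLift (algebraMap R S)).toAlgebra
  haveI : IsScalarTower R (R ⧸ q) S := IsScalarTower.of_algebraMap_eq fun _ => rfl
  haveI : IsLocalRing (R ⧸ q) := GrothLib.RegLoc.isLocalRing_quotient
    (le_maximalIdeal (RingHom.ker_ne_top _))
  haveI : IsLocalHom (algebraMap (R ⧸ q) S) := ⟨fun z hz => by
    obtain ⟨r, rfl⟩ := Ideal.Quotient.mk_surjective z
    exact (isUnit_of_map_unit (algebraMap R S) r hz).map _⟩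
  let bs := Module.finBasis (ResidueField R) (CotangentSpace R)
  choose x hx using fun i => Ideal.toCotangent_surjective _ (bs i)
  have hli := linearIndependent_image R S hres hinj x (by rw [show (fun i => (maximalIdeal R).toCotangent (x i)) = bs from funext hx]; exact bs.linearIndependent)
  obtain ⟨W, hW⟩ := Submodule.exists_isCompl (Submodule.span (ResidueField S)
    (Set.range fun i => (maximalIdeal S).toCotangent ⟨algebraMap R S (x i), algebraMap_mem (x i)⟩))
  have hdim := Submodule.finrank_add_eq_of_isCompl hW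
  rw [finrank_span_eq_card hli, Fintype.card_fin] at hdim
  let bW := Module.finBasis (ResidueField S) W
  choose w hw using fun i => Ideal.toCotangent_surjective (maximalIdeal S) (bW i).1
  set J := (maximalIdeal (R ⧸ q)).map (algebraMap (R ⧸ q) S) with hJdef
  have hJ : J ≤ maximalIdeal S := Ideal.map_le_iff_le_comap.mpr fun a ha => map_nonunit (algebraMap (R ⧸ q) S) a ha
  haveI : IsLocalRing (S ⧸ J) := GrothLib.RegLoc.isLocalRing_quotient hJ
  have htop : Submodule.span S (Set.range (Sum.elim
      (fun i => (⟨algebraMap R S (x i), algebraMap_mem (x i)⟩ : maximalIdeal S)) w)) = ⊤ := by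
    rw [← CotangentSpace.span_image_eq_top_iff, ← Set.range_comp,
      show (maximalIdeal S).toCotangent ∘ Sum.elim
        (fun i => (⟨algebraMap R S (x i), algebraMap_mem (x i)⟩ : maximalIdeal S)) w =
        Sum.elim (fun i => (maximalIdeal S).toCotangent ⟨algebraMap R S (x i), algebraMap_mem (x i)⟩)
          (fun i => (bW i).1) from funext fun i => by rcases i with i | i <;> simp [hw],
      Set.Sum.elim_range, Submodule.span_union]
    rw [show (Set.range fun i => ((bW i).1)) = W.subtype '' Set.range bW from by rw [← Set.range_comp]; rfl,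
      Submodule.span_image, bW.span_eq, Submodule.map_top, Submodule.range_subtype]
    exact hW.sup_eq_top
  have hgen : maximalIdeal S ≤ J ⊔ Ideal.span (Set.range fun i => (w i : S)) := by
    intro s hs
    have : (⟨s, hs⟩ : maximalIdeal S) ∈ (⊤ : Submodule S (maximalIdeal S)) := trivial
    rw [← htop] at this
    have h2 := Submodule.apply_mem_span_image_of_mem_span (maximalIdeal S).subtype this
    refine Ideal.span_le.2 ?_ h2
    rintro _ ⟨_, ⟨i | i, rfl⟩, rfl⟩
    · refine Ideal.mem_sup_left (Ideal.mem_map_of_mem (algebraMap (R ⧸ q) S)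
        (x := Ideal.Quotient.mk q (x i)) ?_)
      rw [← GrothLib.RegLoc.map_maximalIdeal_quotient q]
      exact Ideal.mem_map_of_mem _ (x i).2
    · exact Ideal.mem_sup_right (Ideal.subset_span ⟨i, rfl⟩)
  have hgen' : maximalIdeal S = J ⊔ Ideal.span (Set.range fun i => (w i : S)) :=
    le_antisymm hgen (sup_le hJ (Ideal.span_le.2 fun _ ⟨i, hi⟩ => hi ▸ (w i).2))
  have hF : (maximalIdeal (S ⧸ J)).spanFinrank ≤ Module.finrank (ResidueField S) W := by
    have hm : (maximalIdeal S).map (Ideal.Quotient.mk J) = Ideal.span (Set.range (Ideal.Quotient.mk J ∘ fun i => (w i : S))) :=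
      (congrArg (Ideal.map (Ideal.Quotient.mk J)) hgen').trans (by
        rw [Ideal.map_sup, Ideal.map_quotient_self, bot_sup_eq, Ideal.map_span, ← Set.range_comp])
    rw [← GrothLib.RegLoc.map_maximalIdeal_quotient J, hm]
    exact (Submodule.spanFinrank_span_le_ncard_of_finite (Set.finite_range _)).trans
      (((Set.image_univ (f := _)).symm ▸ Set.ncard_image_le Set.finite_univ).trans (by simp))
  have hineq := GrothLib.CMBasics.ringKrullDim_le_add_fibre (R ⧸ q) S
  rw [← IsRegularLocalRing.spanFinrank_maximalIdeal, spanFinrank_maximalIdeal_eq_finrank_cotangentSpace] at hineq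
  obtain ⟨e1, he1, -⟩ := GrothLib.RegLoc.exists_dim_eq (R := R ⧸ q)
  obtain ⟨e2, he2, -⟩ := GrothLib.RegLoc.exists_dim_eq (R := S ⧸ J)
  obtain ⟨e0, he0, -⟩ := GrothLib.RegLoc.exists_dim_eq (R := R)
  obtain ⟨r, hrq, hr0⟩ := Submodule.exists_mem_ne_zero_of_ne_bot hne
  have hle : Ideal.span {r} ≤ q := (Ideal.span_singleton_le_iff_mem _).2 hrq
  have hlt : ringKrullDim (R ⧸ q) + 1 ≤ ringKrullDim R :=
    le_trans (add_le_add (ringKrullDim_le_of_surjective (Ideal.Quotient.factor hle) (Ideal.Quotient.factor_surjective hle)) le_rfl)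
      (ringKrullDim_quotient_succ_le_of_nonZeroDivisor (mem_nonZeroDivisors_of_ne_zero hr0))
  have hub := ringKrullDim_le_spanFinrank_maximalIdeal (R := R)
  have hub2 := ringKrullDim_le_spanFinrank_maximalIdeal (R := S ⧸ J)
  rw [spanFinrank_maximalIdeal_eq_finrank_cotangentSpace] at hub
  rw [he0] at hub hlt
  rw [← hJdef, he1, he2] at hineq
  rw [he1] at hlt
  rw [he2] at hub2
  norm_cast at hineq hlt hub hub2
  have hcot : Module.finrank (ResidueField S) (maximalIdeal S).Cotangent = Module.finrank (ResidueField S) (CotangentSpace S) := rfl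
  omega

/-- the cotangent space is small if its injective image lies in a small span -/
theorem finrank_cotangent_le (R S : Type u) [CommRing R] [CommRing S] [IsLocalRing R] [IsLocalRing S]
    [IsNoetherianRing R] [IsNoetherianRing S] [Algebra R S] [IsLocalHom (algebraMap R S)]
    (hres : ∀ b : S, ∃ a : R, b - algebraMap R S a ∈ maximalIdeal S)
    (hinj : ∀ x ∈ maximalIdeal R, algebraMap R S x ∈ maximalIdeal S ^ 2 → x ∈ maximalIdeal R ^ 2)
    {ι : Type*} [Fintype ι] (t : ι → maximalIdeal S)
    (hI : ∀ a ∈ maximalIdeal R, ∃ c : ι → S, algebraMap R S a - ∑ j, c j * t j ∈ maximalIdeal S ^ 2) :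
    Module.finrank (ResidueField R) (CotangentSpace R) ≤ Fintype.card ι := by
  classical
  let bs := Module.finBasis (ResidueField R) (CotangentSpace R)
  choose x hx using fun i => Ideal.toCotangent_surjective _ (bs i)
  let v : Fin (Module.finrank (ResidueField R) (CotangentSpace R)) → CotangentSpace S :=
    fun i => (maximalIdeal S).toCotangent ⟨algebraMap R S (x i), algebraMap_mem (x i)⟩
  let W := Submodule.span (ResidueField S) (Set.range fun j => (maximalIdeal S).toCotangent (t j))
  have hvW : ∀ i, v i ∈ W := by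
    intro i
    obtain ⟨c, hc⟩ := hI (x i) (x i).2
    have hz : v i = ∑ j, residue S (c j) • (maximalIdeal S).toCotangent (t j) := by
      have h1 : (maximalIdeal S).toCotangent ⟨algebraMap R S (x i), algebraMap_mem (x i)⟩ =
          (maximalIdeal S).toCotangent (∑ j, c j • t j) := by
        rw [Ideal.toCotangent_eq]
        simpa [AddSubmonoidClass.coe_finset_sum] using hc
      show (maximalIdeal S).toCotangent ⟨algebraMap R S (x i), algebraMap_mem (x i)⟩ = _
      rw [h1, map_sum]
      refine Finset.sum_congr rfl fun j _ => ?_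
      rw [LinearMap.map_smul]
      rfl
    rw [hz]
    exact Submodule.sum_mem _ fun j _ => Submodule.smul_mem _ _ (Submodule.subset_span ⟨j, rfl⟩)
  have hli : LinearIndependent (ResidueField S) v := linearIndependent_image R S hres hinj x (by
    rw [show (fun i => (maximalIdeal R).toCotangent (x i)) = bs from funext hx]; exact bs.linearIndependent)
  have hli' : LinearIndependent (ResidueField S) (fun i => (⟨v i, hvW i⟩ : W)) :=
    LinearIndependent.of_comp W.subtype hli
  have h := hli'.fintype_card_le_finrank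
  rw [Fintype.card_fin] at h
  exact h.trans (finrank_range_le_card _)

end GrothLib.CotTangent
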