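import Groth.Agent.S2082
import Groth.Agent.S11564
import Groth.Agent.Lib.RegLoc.Basic
import Mathlib

/-!
# The cotangent map of a local homomorphism of regular local rings

For a local map `R → S` of regular local rings with `R → κ(S)` surjective: injective on cotangent
spaces iff flat with regular closed fibre.
-/

universe u

open IsLocalRing

namespace GrothLib.CotTangent

variable (R S : Type u) [CommRing R] [CommRing S] [IsRegularLocalRing R] [IsRegularLocalRing S] [Algebra R S]
  [IsLocalHom (algebraMap R S)]

theorem algebraMap_mem {R S : Type u} [CommRing R] [CommRing S] [IsLocalRing R] [IsLocalRing S] [Algebra R S]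
    [IsLocalHom (algebraMap R S)] (x : maximalIdeal R) : algebraMap R S x ∈ maximalIdeal S :=
  map_nonunit (algebraMap R S) x x.2

/-- the images of a family of elements of the maximal ideal in the cotangent space -/
noncomputable def imageVec {ι : Type*} (x : ι → maximalIdeal R) : ι → CotangentSpace S :=
  fun i => (maximalIdeal S).toCotangent ⟨algebraMap R S (x i), algebraMap_mem (x i)⟩

theorem flat_and_regular_of_mem_sq
    (hres : ∀ b : S, ∃ a : R, b - algebraMap R S a ∈ maximalIdeal S)
    (hinj : ∀ x ∈ maximalIdeal R, algebraMap R S x ∈ maximalIdeal S ^ 2 → x ∈ maximalIdeal R ^ 2) :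
    Module.Flat R S ∧ IsRegularLocalRing (S ⧸ (maximalIdeal R).map (algebraMap R S)) := by
  classical
  set J := (maximalIdeal R).map (algebraMap R S)
  have hJ : J ≤ maximalIdeal S := Ideal.map_le_iff_le_comap.mpr fun a ha => map_nonunit (algebraMap R S) a ha
  haveI : IsLocalRing (S ⧸ J) := GrothLib.RegLoc.isLocalRing_quotient hJ
  let bs := Module.finBasis (ResidueField R) (CotangentSpace R)
  choose x hx using fun i => Ideal.toCotangent_surjective _ (bs i)
  have hxtop : Submodule.span R (Set.range x) = ⊤ := by
    rw [← CotangentSpace.span_image_eq_top_iff, ← Set.range_comp,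
      show (maximalIdeal R).toCotangent ∘ x = bs from funext hx]
    exact bs.span_eq
  set v := imageVec R S x
  have hli : LinearIndependent (ResidueField S) v := by
    rw [Fintype.linearIndependent_iff]
    intro g hg i
    choose b hb using fun i => residue_surjective (g i)
    choose a ha using fun i => hres (b i)
    have hga : ∀ i, g i = residue S (algebraMap R S (a i)) := fun i => by
      rw [← hb i, ← sub_eq_zero, ← map_sub, residue_eq_zero_iff]; exact ha i
    let y : maximalIdeal R := ∑ i, a i • x i
    have hy : algebraMap R S y ∈ maximalIdeal S ^ 2 := by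
      rw [← Ideal.toCotangent_eq_zero _ ⟨algebraMap R S y, algebraMap_mem y⟩, ← hg]
      have : (⟨algebraMap R S y, algebraMap_mem y⟩ : maximalIdeal S) =
          ∑ i, algebraMap R S (a i) • (⟨algebraMap R S (x i), algebraMap_mem (x i)⟩ : maximalIdeal S) := by
        apply Subtype.ext
        simp [y, Algebra.smul_def]
      rw [this, map_sum]
      refine Finset.sum_congr rfl fun i _ => ?_
      rw [LinearMap.map_smul, hga i]
      rfl
    have hy2 : (maximalIdeal R).toCotangent y = 0 := (Ideal.toCotangent_eq_zero _ _).2 (hinj y y.2 hy)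
    have : ∑ i, residue R (a i) • bs i = 0 := by
      rw [← hy2, map_sum]
      refine Finset.sum_congr rfl fun i _ => ?_
      rw [LinearMap.map_smul, hx i]
      rfl
    have h0 := Fintype.linearIndependent_iff.1 bs.linearIndependent _ this i
    rw [hga i, residue_eq_zero_iff]
    exact map_nonunit (algebraMap R S) _ ((residue_eq_zero_iff _).1 h0)
  let B := Module.Basis.sumExtend hli
  haveI : Finite (Fin (Module.finrank (ResidueField R) (CotangentSpace R)) ⊕ Module.Basis.sumExtendIndex hli) :=
    Module.Finite.finite_basis B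
  haveI : Finite (Module.Basis.sumExtendIndex hli) := Finite.sum_right (Fin (Module.finrank (ResidueField R) (CotangentSpace R)))
  letI : Fintype (Module.Basis.sumExtendIndex hli) := Fintype.ofFinite _
  choose w hw using fun i => Ideal.toCotangent_surjective _ (B i)
  have hgen : maximalIdeal S = J ⊔ Ideal.span (Set.range fun i => (w (Sum.inr i) : S)) := by
    refine le_antisymm (fun s hs => ?_) (sup_le hJ (Ideal.span_le.2 fun _ ⟨i, hi⟩ => hi ▸ (w (Sum.inr i)).2))
    have hwtop : Submodule.span S (Set.range (Sum.elim (fun i => (⟨algebraMap R S (x i), algebraMap_mem (x i)⟩ : maximalIdeal S))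
        fun i => w (Sum.inr i))) = ⊤ := by
      rw [← CotangentSpace.span_image_eq_top_iff, ← Set.range_comp, ← B.span_eq]
      congr 2
      funext i
      rcases i with i | i
      · show v i = B (Sum.inl i)
        simp [B, Module.Basis.sumExtend]
        rfl
      · exact hw _
    have : (⟨s, hs⟩ : maximalIdeal S) ∈ (⊤ : Submodule S (maximalIdeal S)) := trivial
    rw [← hwtop] at this
    have h2 := Submodule.apply_mem_span_image_of_mem_span (maximalIdeal S).subtype this
    refine Ideal.span_le.2 ?_ h2
    rintro _ ⟨_, ⟨i | i, rfl⟩, rfl⟩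
    · exact Ideal.mem_sup_left (Ideal.mem_map_of_mem _ (x i).2)
    · exact Ideal.mem_sup_right (Ideal.subset_span ⟨i, rfl⟩)
  have hcardB := Module.finrank_eq_card_basis B
  rw [Fintype.card_sum, Fintype.card_fin] at hcardB
  have hnS := spanFinrank_maximalIdeal_eq_finrank_cotangentSpace (R := S)
  have hrR := spanFinrank_maximalIdeal_eq_finrank_cotangentSpace (R := R)
  set r := (maximalIdeal R).spanFinrank
  set n := (maximalIdeal S).spanFinrank
  set c := Fintype.card (Module.Basis.sumExtendIndex hli) with hc
  have hF : (maximalIdeal (S ⧸ J)).spanFinrank ≤ c := by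
    rw [← GrothLib.RegLoc.map_maximalIdeal_quotient J, hgen, Ideal.map_sup, Ideal.map_quotient_self, bot_sup_eq,
      Ideal.map_span, ← Set.range_comp]
    exact (Submodule.spanFinrank_span_le_ncard_of_finite (Set.finite_range _)).trans
      (((Set.image_univ (f := _)).symm ▸ Set.ncard_image_le Set.finite_univ).trans (by simp [hc]))
  have hJr : J.spanFinrank ≤ r := Ideal.spanFinrank_map_le_of_fg _ (IsNoetherian.noetherian (maximalIdeal R))
  have hdim := ringKrullDim_le_ringKrullDim_quotient_add_spanFinrank J (hJ.trans (by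
    rw [Ring.jacobson_eq_sInf_isMaximal]; exact le_sInf fun m hm => (IsLocalRing.eq_maximalIdeal hm).ge))
  rw [← IsRegularLocalRing.spanFinrank_maximalIdeal] at hdim
  obtain ⟨e, he, he'⟩ := GrothLib.RegLoc.exists_dim_eq (R := S ⧸ J)
  rw [he] at hdim
  have hdim' : n ≤ e + J.spanFinrank := by exact_mod_cast hdim
  haveI : IsRegularLocalRing (S ⧸ J) := IsRegularLocalRing.of_spanFinrank_maximalIdeal_le _ (by
    rw [he]; exact_mod_cast (show (maximalIdeal (S ⧸ J)).spanFinrank ≤ e by omega))
  haveI : LocCoh.IsCohenMacaulayLocalRing S := by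
    obtain ⟨rs, h1, h2, h3⟩ := GrothLib.CMFree.exists_weaklyRegular_of_isRegularLocalRing S
    exact GrothLib.CMFree.isCohenMacaulayLocalRing_of_weaklyRegular S rs h1 h2 h3.ge
  refine ⟨Groth.Agent.S2082.result ?_, ‹_›⟩
  rw [← IsRegularLocalRing.spanFinrank_maximalIdeal (R := S), ← IsRegularLocalRing.spanFinrank_maximalIdeal (R := R), he]
  norm_cast
  omega

theorem mem_sq_of_flat_of_regular [Module.Flat R S]
    [IsRegularLocalRing (S ⧸ (maximalIdeal R).map (algebraMap R S))] :
    ∀ x ∈ maximalIdeal R, algebraMap R S x ∈ maximalIdeal S ^ 2 → x ∈ maximalIdeal R ^ 2 := by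
  classical
  intro x0 hx0 hx0S
  set J := (maximalIdeal R).map (algebraMap R S)
  have hJ : J ≤ maximalIdeal S := Ideal.map_le_iff_le_comap.mpr fun a ha => map_nonunit (algebraMap R S) a ha
  let bs := Module.finBasis (ResidueField R) (CotangentSpace R)
  choose x hx using fun i => Ideal.toCotangent_surjective _ (bs i)
  have hxtop : Submodule.span R (Set.range x) = ⊤ := by
    rw [← CotangentSpace.span_image_eq_top_iff, ← Set.range_comp,
      show (maximalIdeal R).toCotangent ∘ x = bs from funext hx]
    exact bs.span_eq
  obtain ⟨z, hz⟩ := GrothLib.RegLoc.exists_generators_fin (maximalIdeal (S ⧸ J))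
  choose w hw using fun i => Ideal.Quotient.mk_surjective (z i)
  have hwm : ∀ i, w i ∈ maximalIdeal S := fun i => by
    have : Ideal.Quotient.mk J (w i) ∈ maximalIdeal (S ⧸ J) := by rw [hw, ← hz]; exact Ideal.subset_span ⟨i, rfl⟩
    rw [← GrothLib.RegLoc.map_maximalIdeal_quotient J] at this
    exact (Ideal.mem_quotient_iff_mem hJ).1 this
  let u : Fin (Module.finrank (ResidueField R) (CotangentSpace R)) ⊕ Fin (maximalIdeal (S ⧸ J)).spanFinrank →
      maximalIdeal S := Sum.elim (fun i => ⟨algebraMap R S (x i), algebraMap_mem (x i)⟩) fun i => ⟨w i, hwm i⟩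
  have htop : Submodule.span S (Set.range u) = ⊤ := by
    refine Submodule.map_injective_of_injective (maximalIdeal S).injective_subtype ?_
    rw [Submodule.map_top, Submodule.range_subtype, Submodule.map_span, ← Set.range_comp]
    refine le_antisymm (Ideal.span_le.2 ?_) ?_
    · rintro _ ⟨i, rfl⟩; exact (u i).2
    · intro s hs
      have : Ideal.Quotient.mk J s ∈ Ideal.span (Set.range z) := by
        rw [hz, ← GrothLib.RegLoc.map_maximalIdeal_quotient J]
        exact Ideal.mem_map_of_mem _ hs
      rw [show Set.range z = Ideal.Quotient.mk J '' Set.range w from by rw [← Set.range_comp]; exact congrArg Set.range (funext fun i => (hw i).symm),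
        ← Ideal.map_span, Ideal.mem_map_iff_of_surjective _ Ideal.Quotient.mk_surjective] at this
      obtain ⟨t, ht, hts⟩ := this
      have hst : s - t ∈ J := Ideal.Quotient.eq.1 hts.symm
      have hJle : J ≤ Ideal.span (Set.range ((maximalIdeal S).subtype ∘ u)) := by
        refine Ideal.map_le_iff_le_comap.2 fun a ha => ?_
        have : (⟨a, ha⟩ : maximalIdeal R) ∈ Submodule.span R (Set.range x) := by rw [hxtop]; trivial
        have h2 := Submodule.apply_mem_span_image_of_mem_span (maximalIdeal R).subtype this
        refine Ideal.span_le.2 ?_ h2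
        rintro _ ⟨_, ⟨i, rfl⟩, rfl⟩
        exact Ideal.subset_span ⟨Sum.inl i, rfl⟩
      rw [show s = t + (s - t) by ring]
      refine add_mem (Ideal.span_mono ?_ ht) (hJle hst)
      rintro _ ⟨i, rfl⟩
      exact ⟨Sum.inr i, rfl⟩
  have htop' : ⊤ ≤ Submodule.span (ResidueField S) (Set.range ((maximalIdeal S).toCotangent ∘ u)) := by
    rw [Set.range_comp, CotangentSpace.span_image_eq_top_iff.2 htop]
  have hli : LinearIndependent (ResidueField S) ((maximalIdeal S).toCotangent ∘ u) := by
    refine linearIndependent_of_top_le_span_of_card_eq_finrank htop' ?_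
    rw [Groth.Agent.S11564.result R S, Fintype.card_sum, Fintype.card_fin, Fintype.card_fin,
      ← spanFinrank_maximalIdeal_eq_finrank_cotangentSpace, ← spanFinrank_maximalIdeal_eq_finrank_cotangentSpace]
    exact Nat.add_comm _ _
  have hv : LinearIndependent (ResidueField S) (imageVec R S x) := hli.comp Sum.inl Sum.inl_injective
  rw [← Ideal.toCotangent_eq_zero _ ⟨x0, hx0⟩]
  have hrepr := bs.sum_repr ((maximalIdeal R).toCotangent ⟨x0, hx0⟩)
  choose a ha using fun i => residue_surjective (bs.repr ((maximalIdeal R).toCotangent ⟨x0, hx0⟩) i)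
  have hd : (maximalIdeal R).toCotangent (⟨x0, hx0⟩ - ∑ i, a i • x i) = 0 := by
    rw [map_sub, sub_eq_zero, map_sum]
    refine hrepr.symm.trans (Finset.sum_congr rfl fun i _ => ?_)
    rw [LinearMap.map_smul, hx i, ← ha i]
    rfl
  rw [Ideal.toCotangent_eq_zero] at hd
  have hdS : algebraMap R S (x0 - ∑ i, a i * (x i : R)) ∈ maximalIdeal S ^ 2 := by
    have h1 : (maximalIdeal R ^ 2).map (algebraMap R S) ≤ maximalIdeal S ^ 2 := by
      rw [Ideal.map_pow]; exact Ideal.pow_right_mono hJ 2
    refine h1 (Ideal.mem_map_of_mem _ ?_)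
    simpa using hd
  have hsum : ∑ i, residue S (algebraMap R S (a i)) • imageVec R S x i = 0 := by
    have hmem : algebraMap R S (∑ i, a i * (x i : R)) ∈ maximalIdeal S ^ 2 := by
      have := sub_mem hx0S hdS
      rwa [map_sub, sub_sub_cancel] at this
    have heq : ∑ i, residue S (algebraMap R S (a i)) • imageVec R S x i = (maximalIdeal S).toCotangent
        ⟨algebraMap R S (∑ i, a i * (x i : R)), Ideal.pow_le_self (two_ne_zero) hmem⟩ := by
      have : (⟨algebraMap R S (∑ i, a i * (x i : R)), Ideal.pow_le_self (two_ne_zero) hmem⟩ : maximalIdeal S) =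
          ∑ i, algebraMap R S (a i) • (⟨algebraMap R S (x i), algebraMap_mem (x i)⟩ : maximalIdeal S) := by
        apply Subtype.ext
        simp [Algebra.smul_def]
      rw [this, map_sum]
      refine Finset.sum_congr rfl fun i _ => ?_
      rw [LinearMap.map_smul]
      rfl
    rw [heq, Ideal.toCotangent_eq_zero]
    exact hmem
  have hcoef := Fintype.linearIndependent_iff.1 hv _ hsum
  rw [← hrepr]
  refine Finset.sum_eq_zero fun i _ => ?_
  have hai : a i ∈ maximalIdeal R := by
    by_contra h
    exact (residue_eq_zero_iff _).1 (hcoef i) (((notMem_maximalIdeal.1 h)).map (algebraMap R S))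
  rw [← ha i, (residue_eq_zero_iff _).2 hai, zero_smul]

end GrothLib.CotTangent
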